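import Cfsg.Agent.Helper11.SchL34.Tab

set_option autoImplicit false
set_option linter.all false
set_option maxRecDepth 1000000
set_option maxHeartbeats 0

namespace Cfsg.Agent.Helper11.SchL34

theorem okT0 : OKT (0 * 20000) 20000 := by decide +kernel
theorem okF0 : OKF [2, 0, 3, 0, 2, 0, 3, 0, 2, 0, 3, 0] 376 31922727871529152585607381792155899904 := by decide +kernel
theorem okF1 : OKF [0, 3, 0, 0, 3, 3, 0, 2, 0, 2, 2, 1, 2, 0] 386 37192990709960397606087303838195063808 := by decide +kernel
theorem okF2 : OKF [0, 3, 0, 0, 3, 3, 0, 2, 0, 2, 2, 1, 2, 0] 755 37239721223227259248756559247726156800 := by decide +kernel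
theorem okF3 : OKF [0, 3, 3, 0, 3, 3, 1, 2, 2, 1, 3, 1, 2, 0] 893 37187798016957423448125548523169913856 := by decide +kernel
theorem okF4 : OKF [0, 3, 3, 0, 3, 3, 1, 2, 2, 1, 3, 1, 2, 0] 2149 37270874766696398578713627961709304832 := by decide +kernel

end Cfsg.Agent.Helper11.SchL34
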