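import Mathlib
import Cfsg.Agent.Helper19.TCR.Lab
import Cfsg.Agent.Helper11.SchL34.Chk0
import Cfsg.Agent.Helper11.SchL34.Chk1
import Cfsg.Agent.Helper11.SchL34.Chk2
import Cfsg.Agent.Helper11.SchL34.Chk3
import Cfsg.Agent.Helper11.SchL34.ChkT

set_option autoImplicit false
set_option linter.all false
set_option maxRecDepth 1000000
set_option maxHeartbeats 0

namespace Cfsg.Agent.Helper11.SchL34

open Cfsg.Agent.Helper19.TCS Cfsg.Agent.Helper19.TCL

theorem okR_all : ∀ p, p < 8 → OKR (p * 360) 360 := by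
  intro p hp
  interval_cases p
  · exact okR0
  · exact okR1
  · exact okR2
  · exact okR3
  · exact okR4
  · exact okR5
  · exact okR6
  · exact okR7

theorem okT_all : ∀ p, p < 1 → OKT (p * 20000) 20000 := by
  intro p hp
  interval_cases p
  · exact okT0

theorem okAll : ∀ i l, i < 2880 → l < 4 → OKE i l := by
  intro i l hi hl
  have hp : i / 360 < 8 := by omega
  have h1 : i / 360 * 360 ≤ i := Nat.div_mul_le_self i 360
  have h2 : i < i / 360 * 360 + 360 := by omega
  exact okRowsL_spec (i / 360 * 360) 360 (okR_all (i / 360) hp) i h1 h2 hi l hl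

theorem treeAll : ∀ j, 0 < j → j < 2880 → parF j < j := by
  intro j h0 hj
  have hp : j / 20000 < 1 := by omega
  have h1 : j / 20000 * 20000 ≤ j := Nat.div_mul_le_self j 20000
  have h2 : j < j / 20000 * 20000 + 20000 := by omega
  exact okTree_spec (j / 20000 * 20000) 20000 (okT_all (j / 20000) hp) j h1 h2 h0 hj

theorem rotsF_ok : ∀ r, r < 40 → rotsF r = rotL.getD r ([], 0, 0) := by
  have h : (List.range 40).all (fun r => rotsF r == rotL.getD r ([], 0, 0)) = true := by decide +kernel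
  intro r hr
  have := forall_lt_of_all h r hr
  exact beq_iff_eq.mp this

theorem rotL_ok : (List.range 40).all (fun r =>
    rotOKL 4 subs.length 8 65536 1024 512 rels (rotL.getD r ([], 0, 0)) (rotIdx.getD r (0, 0))) = true := by
  decide +kernel

theorem subL_ok : (List.range subL.length).all (fun s =>
    subOKL 4 8 65536 1024 512 subs (subL.getD s ([], 0, [], 0)) (subIdx.getD s 0)) = true := by
  decide +kernel

theorem subsF_ok : ∀ s, (subsF s).2.1 < 4 → s < subL.length ∧ subsF s = subL.getD s ([], 0, [], 0) := by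
  intro s hs
  unfold subsF at hs ⊢
  by_cases h : s < subL.length
  · refine ⟨h, ?_⟩
    rw [List.getD_eq_getElem _ _ h, List.getD_eq_getElem _ _ h]
  · rw [List.getD_eq_default _ _ (not_lt.mp h)] at hs
    simp at hs

/-- the labelled table is closed, for any group with generators `gc` whose relator values are central. -/
theorem closedL {Γ : Type*} [Group Γ] {C : Type*} [CommGroup C] (gc : ℕ → Γ) (ι : C →* Γ) (gen : ℕ → C)
    (hinv : ∀ l, l < 4 → gc (invF l) = (gc l)⁻¹)
    (hrels : ∀ ρ, ρ < rels.length → prodw gc (rels.getD ρ []) = ι (gen (subs.length + ρ)) ∧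
      ∀ g : Γ, Commute (prodw gc (rels.getD ρ [])) g)
    (hsubs : ∀ s, s < subs.length → prodw gc (subs.getD s []) = ι (gen s)) :
    SemL 2880 4 8192 8 65536 1024 512 2658496557008018513668235278935917056 invF 40 rotsF subsF gc ι gen ∧
      ∀ i l, i < 2880 → l < 4 → FactL gc ι gen 2880 4096 2147483648 8 65536 1024 512 ent parF pletF i l := by
  have S : SemL 2880 4 8192 8 65536 1024 512 2658496557008018513668235278935917056 invF 40 rotsF subsF gc ι gen :=
    semL_of_data rels subs rotL rotIdx subL subIdx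
      (by intro l hl; interval_cases l <;> decide) hinv (by norm_num) (by norm_num) (by norm_num)
      (by decide +kernel) (by norm_num) (by norm_num) rotsF_ok rotL_ok hrels subsF_ok subL_ok hsubs
  exact ⟨S, closed_of_okL S treeAll okAll⟩


theorem face0 {Γ : Type*} [Group Γ] {C : Type*} [CommGroup C] (gc : ℕ → Γ) (ι : C →* Γ) (gen : ℕ → C)
    (hinv : ∀ l, l < 4 → gc (invF l) = (gc l)⁻¹)
    (hrels : ∀ ρ, ρ < rels.length → prodw gc (rels.getD ρ []) = ι (gen (subs.length + ρ)) ∧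
      ∀ g : Γ, Commute (prodw gc (rels.getD ρ [])) g)
    (hsubs : ∀ s, s < subs.length → prodw gc (subs.getD s []) = ι (gen s)) :
    ι (gen (subs.length + 4)) = ι (dsem gen 512 12 0 [6144, 6146, 6142, 6146, 6146, 6143, 6144, 6148]) := by
  obtain ⟨S, hcl⟩ := closedL gc ι gen hinv hrels hsubs
  have hw : [2, 0, 3, 0, 2, 0, 3, 0, 2, 0, 3, 0] = (rels.getD 4 []).rotate 1 := by decide
  obtain ⟨h1, h2⟩ := hrels 4 (by decide)
  have hcen : ∀ g : Γ, Commute (prodw gc [2, 0, 3, 0, 2, 0, 3, 0, 2, 0, 3, 0]) g := by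
    rw [hw, prodw_rotate_central h2]; exact h2
  have h3 := face_spec S hcl (w := [2, 0, 3, 0, 2, 0, 3, 0, 2, 0, 3, 0]) (b := 376) (expected := 31922727871529152585607381792155899904) (by norm_num) (by decide) (by norm_num)
    [6144, 6146, 6142, 6146, 6146, 6143, 6144, 6148] (by decide) (by decide) (by decide +kernel) hcen okF0
  rw [← h1, ← prodw_rotate_central h2 1, ← hw]
  exact h3


theorem face1 {Γ : Type*} [Group Γ] {C : Type*} [CommGroup C] (gc : ℕ → Γ) (ι : C →* Γ) (gen : ℕ → C)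
    (hinv : ∀ l, l < 4 → gc (invF l) = (gc l)⁻¹)
    (hrels : ∀ ρ, ρ < rels.length → prodw gc (rels.getD ρ []) = ι (gen (subs.length + ρ)) ∧
      ∀ g : Γ, Commute (prodw gc (rels.getD ρ [])) g)
    (hsubs : ∀ s, s < subs.length → prodw gc (subs.getD s []) = ι (gen s)) :
    ι (gen (subs.length + 5)) = ι (dsem gen 512 14 0 [7168, 7165, 7167, 7167, 7167, 7168, 7173, 7163]) := by
  obtain ⟨S, hcl⟩ := closedL gc ι gen hinv hrels hsubs
  have hw : [0, 3, 0, 0, 3, 3, 0, 2, 0, 2, 2, 1, 2, 0] = (rels.getD 5 []).rotate 1 := by decide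
  obtain ⟨h1, h2⟩ := hrels 5 (by decide)
  have hcen : ∀ g : Γ, Commute (prodw gc [0, 3, 0, 0, 3, 3, 0, 2, 0, 2, 2, 1, 2, 0]) g := by
    rw [hw, prodw_rotate_central h2]; exact h2
  have h3 := face_spec S hcl (w := [0, 3, 0, 0, 3, 3, 0, 2, 0, 2, 2, 1, 2, 0]) (b := 386) (expected := 37192990709960397606087303838195063808) (by norm_num) (by decide) (by norm_num)
    [7168, 7165, 7167, 7167, 7167, 7168, 7173, 7163] (by decide) (by decide) (by decide +kernel) hcen okF1
  rw [← h1, ← prodw_rotate_central h2 1, ← hw]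
  exact h3


theorem face2 {Γ : Type*} [Group Γ] {C : Type*} [CommGroup C] (gc : ℕ → Γ) (ι : C →* Γ) (gen : ℕ → C)
    (hinv : ∀ l, l < 4 → gc (invF l) = (gc l)⁻¹)
    (hrels : ∀ ρ, ρ < rels.length → prodw gc (rels.getD ρ []) = ι (gen (subs.length + ρ)) ∧
      ∀ g : Γ, Commute (prodw gc (rels.getD ρ [])) g)
    (hsubs : ∀ s, s < subs.length → prodw gc (subs.getD s []) = ι (gen s)) :
    ι (gen (subs.length + 5)) = ι (dsem gen 512 14 0 [7168, 7169, 7171, 7167, 7167, 7165, 7171, 7172]) := by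
  obtain ⟨S, hcl⟩ := closedL gc ι gen hinv hrels hsubs
  have hw : [0, 3, 0, 0, 3, 3, 0, 2, 0, 2, 2, 1, 2, 0] = (rels.getD 5 []).rotate 1 := by decide
  obtain ⟨h1, h2⟩ := hrels 5 (by decide)
  have hcen : ∀ g : Γ, Commute (prodw gc [0, 3, 0, 0, 3, 3, 0, 2, 0, 2, 2, 1, 2, 0]) g := by
    rw [hw, prodw_rotate_central h2]; exact h2
  have h3 := face_spec S hcl (w := [0, 3, 0, 0, 3, 3, 0, 2, 0, 2, 2, 1, 2, 0]) (b := 755) (expected := 37239721223227259248756559247726156800) (by norm_num) (by decide) (by norm_num)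
    [7168, 7169, 7171, 7167, 7167, 7165, 7171, 7172] (by decide) (by decide) (by decide +kernel) hcen okF2
  rw [← h1, ← prodw_rotate_central h2 1, ← hw]
  exact h3


theorem face3 {Γ : Type*} [Group Γ] {C : Type*} [CommGroup C] (gc : ℕ → Γ) (ι : C →* Γ) (gen : ℕ → C)
    (hinv : ∀ l, l < 4 → gc (invF l) = (gc l)⁻¹)
    (hrels : ∀ ρ, ρ < rels.length → prodw gc (rels.getD ρ []) = ι (gen (subs.length + ρ)) ∧
      ∀ g : Γ, Commute (prodw gc (rels.getD ρ [])) g)
    (hsubs : ∀ s, s < subs.length → prodw gc (subs.getD s []) = ι (gen s)) :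
    ι (gen (subs.length + 6)) = ι (dsem gen 512 14 0 [7168, 7166, 7170, 7169, 7168, 7165, 7168, 7162]) := by
  obtain ⟨S, hcl⟩ := closedL gc ι gen hinv hrels hsubs
  have hw : [0, 3, 3, 0, 3, 3, 1, 2, 2, 1, 3, 1, 2, 0] = (rels.getD 6 []).rotate 1 := by decide
  obtain ⟨h1, h2⟩ := hrels 6 (by decide)
  have hcen : ∀ g : Γ, Commute (prodw gc [0, 3, 3, 0, 3, 3, 1, 2, 2, 1, 3, 1, 2, 0]) g := by
    rw [hw, prodw_rotate_central h2]; exact h2
  have h3 := face_spec S hcl (w := [0, 3, 3, 0, 3, 3, 1, 2, 2, 1, 3, 1, 2, 0]) (b := 893) (expected := 37187798016957423448125548523169913856) (by norm_num) (by decide) (by norm_num)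
    [7168, 7166, 7170, 7169, 7168, 7165, 7168, 7162] (by decide) (by decide) (by decide +kernel) hcen okF3
  rw [← h1, ← prodw_rotate_central h2 1, ← hw]
  exact h3


theorem face4 {Γ : Type*} [Group Γ] {C : Type*} [CommGroup C] (gc : ℕ → Γ) (ι : C →* Γ) (gen : ℕ → C)
    (hinv : ∀ l, l < 4 → gc (invF l) = (gc l)⁻¹)
    (hrels : ∀ ρ, ρ < rels.length → prodw gc (rels.getD ρ []) = ι (gen (subs.length + ρ)) ∧
      ∀ g : Γ, Commute (prodw gc (rels.getD ρ [])) g)
    (hsubs : ∀ s, s < subs.length → prodw gc (subs.getD s []) = ι (gen s)) :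
    ι (gen (subs.length + 6)) = ι (dsem gen 512 14 0 [7168, 7168, 7168, 7165, 7170, 7167, 7168, 7178]) := by
  obtain ⟨S, hcl⟩ := closedL gc ι gen hinv hrels hsubs
  have hw : [0, 3, 3, 0, 3, 3, 1, 2, 2, 1, 3, 1, 2, 0] = (rels.getD 6 []).rotate 1 := by decide
  obtain ⟨h1, h2⟩ := hrels 6 (by decide)
  have hcen : ∀ g : Γ, Commute (prodw gc [0, 3, 3, 0, 3, 3, 1, 2, 2, 1, 3, 1, 2, 0]) g := by
    rw [hw, prodw_rotate_central h2]; exact h2
  have h3 := face_spec S hcl (w := [0, 3, 3, 0, 3, 3, 1, 2, 2, 1, 3, 1, 2, 0]) (b := 2149) (expected := 37270874766696398578713627961709304832) (by norm_num) (by decide) (by norm_num)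
    [7168, 7168, 7168, 7165, 7170, 7167, 7168, 7178] (by decide) (by decide) (by decide +kernel) hcen okF4
  rw [← h1, ← prodw_rotate_central h2 1, ← hw]
  exact h3

end Cfsg.Agent.Helper11.SchL34
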