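import Mathlib
import Cfsg.Agent.Helper11.SchL34.Facts
import Cfsg.Agent.Helper19.Schur.Cover
import Cfsg.Agent.Helper23.Schur2.Upper

/-! Instance of helper19's labelled Todd–Coxeter pipeline (upper bound: relation lattice of the
central relator symbols); generated by helper11's `emit_all.py`. -/

set_option autoImplicit false
set_option linter.all false
set_option maxRecDepth 100000

namespace Cfsg.Agent.Helper11.SchL34

open Cfsg Cfsg.Agent.Helper19.TCS Cfsg.Agent.Helper19.TCL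
  Cfsg.Agent.Helper19.Schur

universe u

theorem invF_eq : ∀ l, l < 4 → invF l = inv4 l := by
  intro l hl
  interval_cases l <;> rfl

theorem prodw_replicate' {Δ : Type*} [Group Δ] (gc : ℕ → Δ) (l n : ℕ) :
    prodw gc (List.replicate n l) = gc l ^ n := by
  induction n with
  | zero => simp [prodw]
  | succ n ih => rw [List.replicate_succ, prodw, ih, pow_succ]

theorem hcen_of_trivial {Δ : Type u} [Group Δ] (a b : Δ)
    (h : ∀ w ∈ rels, prodw (gc2 a b) w = 1) :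
    ∀ ρ g, Commute (prodw (gc2 a b) (rels.getD ρ [])) g := by
  intro ρ g
  have : prodw (gc2 a b) (rels.getD ρ []) = 1 :=
    forall_getD_of_forall_mem (fun w => prodw (gc2 a b) w = 1) rels [] h rfl ρ
  rw [this]
  exact Commute.one_left g

theorem closedL' {Δ : Type u} [Group Δ] (a b : Δ)
    (hcen : ∀ ρ g, Commute (prodw (gc2 a b) (rels.getD ρ [])) g) :
    SemL 2880 4 8192 8 65536 1024 512 2658496557008018513668235278935917056 invF 40 rotsF subsF
        (gc2 a b) (iotaC (gfam a b rels 8) (gfam_comm a b rels 8 hcen)) (genC 8) ∧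
      ∀ i l, i < 2880 → l < 4 →
        FactL (gc2 a b) (iotaC (gfam a b rels 8) (gfam_comm a b rels 8 hcen)) (genC 8)
          2880 4096 2147483648 8 65536 1024 512 ent parF pletF i l :=
  closedL (gc2 a b) _ (genC 8) (gc2_invF a b invF invF_eq)
    (bridge_rels a b rels 8 (by decide) hcen) (bridge_subs a b rels 8 (by norm_num) hcen)

theorem hT1 (Δ : Type u) [Group Δ] (a b : Δ)
    (hgen : Subgroup.closure {a, b} = (⊤ : Subgroup Δ))
    (hrel : ∀ w ∈ rels, prodw (gc2 a b) w = 1) : Finite Δ ∧ Nat.card Δ ≤ 20160 := by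
  have hcen := hcen_of_trivial a b hrel
  obtain ⟨S, hcl⟩ := closedL' a b hcen
  have ha : a ^ 7 = 1 := by
    have h1 := hrel (List.replicate 7 0) (by decide)
    rw [prodw_replicate'] at h1
    exact h1
  have hι : ∀ c, iotaC (gfam a b rels 8) (gfam_comm a b rels 8 hcen) c ∈ Subgroup.zpowers a := by
    intro c
    apply iotaC_mem
    intro i
    unfold gfam
    split_ifs with h
    · exact Subgroup.mem_zpowers a
    · have : prodw (gc2 a b) (rels.getD ((i : ℕ) - 1) []) = 1 :=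
        forall_getD_of_forall_mem (fun w => prodw (gc2 a b) w = 1) rels [] hrel rfl _
      rw [this]
      exact one_mem _
  have := card_le_of_factL a b hgen _ (genC 8) S hcl 7 (by norm_num) ha hι
  exact this

/-- the relations among the relator symbols found by the faces. -/
def lam : Fin 5 → Fin 8 → ℤ :=
  ![![0, 2, -2, 2, 2, -2, 0, 4],
    ![0, -3, -1, -1, -1, 0, 4, -5],
    ![0, 1, 3, -1, -1, -3, 2, 4],
    ![0, -2, 2, 1, 0, -3, 0, -7],
    ![0, 0, 0, -3, 2, -1, 0, 9]]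

theorem hT2 (Δ : Type u) [Group Δ] (a b : Δ)
    (hcen : ∀ ρ g, Commute (prodw (gc2 a b) (rels.getD ρ [])) g) (j : Fin 5) :
    Psi (gfam a b rels 8) (gfam_comm a b rels 8 hcen) (lam j) = 1 := by
  have hinv := gc2_invF a b invF invF_eq
  have hrels := bridge_rels a b rels 8 (by decide) hcen
  have hsubs := bridge_subs a b rels 8 (by norm_num) hcen
  fin_cases j
  · exact psi_eq_one_of_face _ _ 512 12 [6144, 6146, 6142, 6146, 6146, 6143, 6144, 6148] rfl
      ⟨5, by norm_num⟩ _ (face0 (gc2 a b) _ (genC 8) hinv hrels hsubs) (by decide)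
  · exact psi_eq_one_of_face _ _ 512 14 [7168, 7165, 7167, 7167, 7167, 7168, 7173, 7163] rfl
      ⟨6, by norm_num⟩ _ (face1 (gc2 a b) _ (genC 8) hinv hrels hsubs) (by decide)
  · exact psi_eq_one_of_face _ _ 512 14 [7168, 7169, 7171, 7167, 7167, 7165, 7171, 7172] rfl
      ⟨6, by norm_num⟩ _ (face2 (gc2 a b) _ (genC 8) hinv hrels hsubs) (by decide)
  · exact psi_eq_one_of_face _ _ 512 14 [7168, 7166, 7170, 7169, 7168, 7165, 7168, 7162] rfl
      ⟨7, by norm_num⟩ _ (face3 (gc2 a b) _ (genC 8) hinv hrels hsubs) (by decide)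
  · exact psi_eq_one_of_face _ _ 512 14 [7168, 7168, 7168, 7165, 7170, 7167, 7168, 7178] rfl
      ⟨7, by norm_num⟩ _ (face4 (gc2 a b) _ (genC 8) hinv hrels hsubs) (by decide)

/-! ### The lattice data -/

def e1 : Fin 8 → ℤ := ![0, 0, 7, 4, 9, 6, 5, 0]
def e2 : Fin 8 → ℤ := ![0, 5, 0, -4, 3, 0, 1, -2]
def c1 : Fin 8 → ℤ := ![0, -1, 12, 0, 24, 6, -67, 0]
def c2 : Fin 8 → ℤ := ![0, 5, -60, 0, -120, -30, 336, 0]
def g01 : Fin 8 → ℤ := ![0, -2245, -413, 0, -826, -215, 2323, -5690]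
def g02 : Fin 8 → ℤ := ![0, -7660, -1402, 0, -2804, -730, 7886, -19413]

theorem he1 : ∀ c : Fin 8, e1 c = if (c : ℕ) = 0 then 0 else es0 (rels.getD ((c : ℕ) - 1) []) := by
  decide

theorem he2 : ∀ c : Fin 8, e2 c = if (c : ℕ) = 0 then 0 else es1 (rels.getD ((c : ℕ) - 1) []) := by
  decide

theorem Efun_eq (e v : Fin 8 → ℤ) : Efun e v =
    v 0 * e 0 + v 1 * e 1 + v 2 * e 2 + v 3 * e 3 + v 4 * e 4 + v 5 * e 5 + v 6 * e 6 + v 7 * e 7 := by
  unfold Efun
  rw [Fin.sum_univ_eight]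

theorem hc1 : (∀ c : Fin 8, (c : ℕ) = 0 → c1 c = 0) ∧ Efun e1 c1 = 1 ∧ Efun e2 c1 = 0 := by
  refine ⟨by decide, ?_, ?_⟩ <;> rw [Efun_eq] <;> decide

theorem hc2 : (∀ c : Fin 8, (c : ℕ) = 0 → c2 c = 0) ∧ Efun e1 c2 = 0 ∧ Efun e2 c2 = 1 := by
  refine ⟨by decide, ?_, ?_⟩ <;> rw [Efun_eq] <;> decide

theorem hg01 : ∀ c : Fin 8, (c : ℕ) = 0 → g01 c = 0 := by decide

theorem hg02 : ∀ c : Fin 8, (c : ℕ) = 0 → g02 c = 0 := by decide

theorem hL1 : ∀ v : Fin 8 → ℤ, (∀ c : Fin 8, (c : ℕ) = 0 → v c = 0) → Efun e1 v = 0 →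
    Efun e2 v = 0 → ∃ (cf : Fin 5 → ℤ) (t1 t2 : ℤ), v = ∑ j, cf j • lam j + t1 • g01 + t2 • g02 := by
  intro v h0 h1 h2
  have h0' : v 0 = 0 := h0 0 rfl
  rw [Efun_eq] at h1 h2
  simp only [e1, e2, Matrix.cons_val_zero, Matrix.cons_val_one, Matrix.cons_val] at h1 h2
  refine ⟨![(4) * v 1 + (6966) * v 2 + (-3483) * v 3 + (-4567) * v 4 + (1279) * v 5 + (-273) * v 6 + (-4) * v 7,
      (-394) * v 1 + (-494494) * v 2 + (247439) * v 3 + (324320) * v 4 + (-90725) * v 5 + (19431) * v 6 + (328) * v 7,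
      (38) * v 1 + (48755) * v 2 + (-24393) * v 3 + (-31972) * v 4 + (8947) * v 5 + (-1914) * v 6 + (-32) * v 7,
      (-119) * v 1 + (-146258) * v 2 + (73187) * v 3 + (95922) * v 4 + (-26835) * v 5 + (5746) * v 6 + (98) * v 7,
      (85) * v 1 + (104471) * v 2 + (-52278) * v 3 + (-68518) * v 4 + (19167) * v 5 + (-4105) * v 6 + (-70) * v 7],
    (1) * v 1 + (-1056) * v 2 + (530) * v 3 + (699) * v 4 + (-192) * v 5 + (44) * v 6,
    (2) * v 1 + (548) * v 2 + (-278) * v 3 + (-363) * v 4 + (99) * v 5 + (-23) * v 6 + (-1) * v 7, ?_⟩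
  funext c
  rw [Fin.sum_univ_five]
  fin_cases c <;>
    simp [lam, g01, g02] <;> omega

theorem hL2a : ∃ cf : Fin 5 → ℤ, ((12 : ℕ) : ℤ) • g01 = ∑ j, cf j • lam j := by
  refine ⟨![-77, 7304, -670, 2102, -1562], ?_⟩
  funext c
  rw [Fin.sum_univ_five]
  fin_cases c <;> simp [lam, g01]

theorem hL2b : ∃ cf : Fin 5 → ℤ, ((4 : ℕ) : ℤ) • g02 = ∑ j, cf j • lam j := by
  refine ⟨![-100, 8278, -784, 2411, -1761], ?_⟩
  funext c
  rw [Fin.sum_univ_five]
  fin_cases c <;> simp [lam, g02]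

end Cfsg.Agent.Helper11.SchL34
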